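/-
Consequences of the solvable signalizer functor theorem.
-/
import Cfsg.Agent.H7.SFT.Final
import Cfsg.Agent.H7.RankGraph

set_option autoImplicit false

open Cfsg Subgroup

universe u

namespace H7.SFT

/-- The completeness hypothesis of the rank-graph theorem holds. -/
theorem completeSolvableFunctors {G : Type u} [Group G] [Finite G] {p : ℕ} [Fact p.Prime]
    (θ : G → Subgroup G) : H7.CompleteSolvableFunctors p θ := by
  intro A hc he hA3 hθ
  have hA : IsElementaryAbelian p A := H7.isElementaryAbelian_of_comm hc he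
  have hA1 : A ≠ ⊥ := fun h => by
    rw [h, card_bot] at hA3
    exact absurd hA3 (by have := Nat.one_lt_pow three_ne_zero (Fact.out : p.Prime).one_lt; omega)
  exact (H84.SFT.closure_of_complete hθ hA1 (complete hA hA3 hθ)).2

/-- A `p'`-subgroup acted on by an elementary abelian group of order at least `p ^ 3` is solvable if
the centralizers of the nontrivial elements are. -/
theorem solvable_of_centralizers {G : Type u} [Group G] [Finite G] {p : ℕ} [Fact p.Prime]
    {A K : Subgroup G} (hA : IsElementaryAbelian p A) (hA3 : p ^ 3 ≤ Nat.card A)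
    (hK : ¬ p ∣ Nat.card K) (hAK : A ≤ normalizer (K : Set G))
    (hC : ∀ a ∈ A, a ≠ 1 → Group.IsSolvable ↥(K ⊓ centralizer ({a} : Set G))) :
    Group.IsSolvable K := by
  have hp := (Fact.out : p.Prime)
  set θ : G → Subgroup G := fun a => K ⊓ centralizer {a} with hθdef
  have hθ : IsSolvableSignalizerFunctor p A θ := by
    refine ⟨⟨fun a _ _ => inf_le_right,
      fun a _ _ hd => hK (hd.trans (card_dvd_of_le inf_le_left)), fun a ha _ b hb x hx => ?_,
      fun a _ _ b _ _ => inf_le_inf_right _ inf_le_left⟩, hC⟩
    refine ⟨(Subgroup.mem_normalizer_iff.mp (hAK hb) x).mp hx.1,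
      mem_centralizer_singleton_iff.mpr ?_⟩
    have hab : a * b = b * a := H31.SFT.comm_of_elem hA ha hb
    have hxa : x * a = a * x := mem_centralizer_singleton_iff.mp hx.2
    have hba : Commute a b := hab
    exact ((hba.mul_right (Commute.symm hxa)).mul_right hba.inv_right).symm.eq
  have hA1 : A ≠ ⊥ := fun h => by
    rw [h, card_bot] at hA3
    exact absurd hA3 (by have := Nat.one_lt_pow three_ne_zero hp.one_lt; omega)
  have hsol := (H84.SFT.closure_of_complete hθ hA1 (complete hA hA3 hθ)).1
  have hle : K ≤ ⨆ a : {a : G // a ∈ A ∧ a ≠ 1}, θ a :=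
    H8.generation_elements hA ((Nat.pow_le_pow_right hp.pos (by norm_num)).trans hA3) hAK hK
      fun b hb hb1 => le_iSup (fun a : {a : G // a ∈ A ∧ a ≠ 1} => θ a) ⟨b, hb, hb1⟩
  haveI := hsol
  exact Group.isSolvable_of_isSolvable_injective (inclusion_injective hle)

end H7.SFT
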